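import Mathlib

set_option autoImplicit false
universe u

namespace Groth.Agent.Staudt8
open Matrix

variable {A : Type u} [CommRing A] [IsLocalRing A]

theorem det_eq_zero_of_orth (M : Matrix (Fin 3) (Fin 3) A) (n : Fin 3 → A) (hn : ∃ i, IsUnit (n i)) (h : M *ᵥ n = 0) : M.det = 0 := by
  have h2 := congrArg (fun z => M.adjugate *ᵥ z) h
  simp only [Matrix.mulVec_mulVec, Matrix.adjugate_mul, Matrix.mulVec_zero, Matrix.smul_mulVec, Matrix.one_mulVec] at h2
  obtain ⟨i, hi⟩ := hn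
  exact hi.mul_left_eq_zero.mp (congrFun h2 i)

theorem det3 (a b c : Fin 3 → A) : (Matrix.of ![a, b, c]).det =
    a 0 * b 1 * c 2 - a 0 * b 2 * c 1 - a 1 * b 0 * c 2 + a 1 * b 2 * c 0 + a 2 * b 0 * c 1 - a 2 * b 1 * c 0 := by
  rw [Matrix.det_fin_three]; rfl

theorem normalised (p : ℕ) [Fact p.Prime] (σ : (Fin 3 → ZMod p) → (Fin 3 → A))
    (hpt : ∀ v, v ≠ 0 → ∃ i, IsUnit (σ v i))
    (hcol : ∀ u v w, u ≠ 0 → v ≠ 0 → w ≠ 0 → Matrix.det (Matrix.of ![u, v, w]) = 0 → (Matrix.of ![σ u, σ v, σ w]).det = 0)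
    (a b c : Aˣ) (h1 : σ ![1, 0, 0] = ![(a : A), 0, 0]) (h2 : σ ![0, 1, 0] = ![0, (b : A), 0])
    (h3 : σ ![0, 0, 1] = ![0, 0, (c : A)]) (h4 : σ ![1, 1, 1] = ![1, 1, 1]) : (p : A) = 0 := by
  have hne : ∀ x y z : ZMod p, (x ≠ 0 ∨ y ≠ 0 ∨ z ≠ 0) → (![x, y, z] : Fin 3 → ZMod p) ≠ 0 := by
    intro x y z h e
    rcases h with h | h | h
    · exact h (congrFun e 0)
    · exact h (congrFun e 1)
    · exact h (congrFun e 2)
  have n1 : (![1, 0, 0] : Fin 3 → ZMod p) ≠ 0 := hne _ _ _ (Or.inl one_ne_zero)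
  have n2 : (![0, 1, 0] : Fin 3 → ZMod p) ≠ 0 := hne _ _ _ (Or.inr (Or.inl one_ne_zero))
  have n3 : (![0, 0, 1] : Fin 3 → ZMod p) ≠ 0 := hne _ _ _ (Or.inr (Or.inr one_ne_zero))
  have n4 : (![1, 1, 1] : Fin 3 → ZMod p) ≠ 0 := hne _ _ _ (Or.inl one_ne_zero)
  -- the point (1 : 1 : 0)
  have n5 : (![1, 1, 0] : Fin 3 → ZMod p) ≠ 0 := hne _ _ _ (Or.inl one_ne_zero)
  set S := σ ![1, 1, 0] with hS
  have hS2 : S 2 = 0 := by
    have h := hcol _ _ _ n1 n2 n5 (by rw [Matrix.det_fin_three]; simp)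
    rw [h1, h2, det3, ← hS] at h
    simp at h
    exact (a.isUnit.mul b.isUnit).mul_right_eq_zero.mp h
  have hS01 : S 0 = S 1 := by
    have h := hcol _ _ _ n3 n4 n5 (by rw [Matrix.det_fin_three]; simp)
    rw [h3, h4, det3, ← hS] at h
    simp at h
    have h' : (c : A) * (S 1 - S 0) = 0 := by linear_combination h
    exact (sub_eq_zero.mp ((Units.mul_right_eq_zero c).mp h')).symm
  have hSu : IsUnit (S 1) := by
    obtain ⟨i, hi⟩ := hpt _ n5
    rw [← hS] at hi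
    fin_cases i
    · simpa [hS01] using hi
    · simpa using hi
    · simp [hS2] at hi
  -- the point (0 : 1 : 1)
  have n6 : (![0, 1, 1] : Fin 3 → ZMod p) ≠ 0 := hne _ _ _ (Or.inr (Or.inl one_ne_zero))
  set T := σ ![0, 1, 1] with hT
  have hT0 : T 0 = 0 := by
    have h := hcol _ _ _ n2 n3 n6 (by rw [Matrix.det_fin_three]; simp)
    rw [h2, h3, det3, ← hT] at h
    simp at h
    exact (b.isUnit.mul c.isUnit).mul_right_eq_zero.mp h
  have hT12 : T 1 = T 2 := by
    have h := hcol _ _ _ n1 n4 n6 (by rw [Matrix.det_fin_three]; simp)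
    rw [h1, h4, det3, ← hT] at h
    simp at h
    have h' : (a : A) * (T 2 - T 1) = 0 := by linear_combination h
    exact (sub_eq_zero.mp ((Units.mul_right_eq_zero a).mp h')).symm
  have hTu : IsUnit (T 1) := by
    obtain ⟨i, hi⟩ := hpt _ n6
    rw [← hT] at hi
    fin_cases i
    · simp [hT0] at hi
    · simpa using hi
    · simpa [hT12] using hi
  have key : ∀ k : ℕ, ∃ t : Aˣ, σ ![(k : ZMod p), 0, 1] = ![(t : A) * (k : A), 0, (t : A)] := by
    intro k
    induction k with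
    | zero => exact ⟨c, by simpa using h3⟩
    | succ k ih =>
      obtain ⟨t, ht⟩ := ih
      have nP : (![(k : ZMod p), 0, 1] : Fin 3 → ZMod p) ≠ 0 := hne _ _ _ (Or.inr (Or.inr one_ne_zero))
      have nR : (![(k : ZMod p) + 1, 1, 1] : Fin 3 → ZMod p) ≠ 0 := hne _ _ _ (Or.inr (Or.inl one_ne_zero))
      have nQ : (![(k : ZMod p) + 1, 0, 1] : Fin 3 → ZMod p) ≠ 0 := hne _ _ _ (Or.inr (Or.inr one_ne_zero))
      set R := σ ![(k : ZMod p) + 1, 1, 1] with hR
      set Q := σ ![(k : ZMod p) + 1, 0, 1] with hQ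
      have hR12 : R 1 = R 2 := by
        have h := hcol _ _ _ n1 n6 nR (by rw [Matrix.det_fin_three]; simp)
        rw [h1, det3, ← hR, ← hT] at h
        simp [hT0, ← hT12] at h
        have h' : ((a : A) * T 1) * (R 2 - R 1) = 0 := by linear_combination h
        exact (sub_eq_zero.mp ((a.isUnit.mul hTu).mul_right_eq_zero.mp h')).symm
      have hR0 : R 0 = ((k : A) + 1) * R 1 := by
        have h := hcol _ _ _ nP n5 nR (by rw [Matrix.det_fin_three]; simp)
        rw [ht, det3, ← hR, ← hS] at h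
        simp [hS01, hS2, ← hR12] at h
        have h' : ((t : A) * S 1) * (((k : A) + 1) * R 1 - R 0) = 0 := by linear_combination h
        exact (sub_eq_zero.mp ((t.isUnit.mul hSu).mul_right_eq_zero.mp h')).symm
      have hRu : IsUnit (R 1) := by
        obtain ⟨i, hi⟩ := hpt _ nR
        rw [← hR] at hi
        fin_cases i
        · simp [hR0] at hi
          exact hi.2
        · simpa using hi
        · simpa [hR12] using hi
      have hQ1 : Q 1 = 0 := by
        have h := hcol _ _ _ n1 n3 nQ (by rw [Matrix.det_fin_three]; simp)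
        rw [h1, h3, det3, ← hQ] at h
        simp at h
        exact (a.isUnit.mul c.isUnit).mul_right_eq_zero.mp h
      have hQ0 : Q 0 = ((k : A) + 1) * Q 2 := by
        have h := hcol _ _ _ n2 nR nQ (by rw [Matrix.det_fin_three]; simp)
        rw [h2, det3, ← hQ, ← hR] at h
        simp [hQ1, hR0, ← hR12] at h
        have h' : ((b : A) * R 1) * (Q 0 - ((k : A) + 1) * Q 2) = 0 := by linear_combination h
        exact sub_eq_zero.mp ((b.isUnit.mul hRu).mul_right_eq_zero.mp h')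
      have hQu : IsUnit (Q 2) := by
        obtain ⟨i, hi⟩ := hpt _ nQ
        rw [← hQ] at hi
        fin_cases i
        · simp [hQ0] at hi
          exact hi.2
        · simp [hQ1] at hi
        · simpa using hi
      refine ⟨hQu.unit, funext fun i => ?_⟩
      rw [show ((k + 1 : ℕ) : ZMod p) = (k : ZMod p) + 1 by push_cast; rfl, ← hQ]
      fin_cases i
      · simp [hQ0, mul_comm]
      · simp [hQ1]
      · simp
  obtain ⟨t, ht⟩ := key p
  rw [ZMod.natCast_self, h3] at ht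
  exact (Units.mul_right_eq_zero t).mp (by have := congrFun ht 0; simpa using this.symm)

theorem staudt (p : ℕ) [Fact p.Prime] (ρ : (Fin 3 → ZMod p) → (Fin 3 → A))
    (hpt : ∀ v : Fin 3 → ZMod p, v ≠ 0 → ∃ i, IsUnit (ρ v i))
    (hcol : ∀ u v w : Fin 3 → ZMod p, u ≠ 0 → v ≠ 0 → w ≠ 0 →
      Matrix.det (Matrix.of ![u, v, w]) = 0 →
      ∃ n : Fin 3 → A, (∃ i, IsUnit (n i)) ∧
        dotProduct (ρ u) n = 0 ∧ dotProduct (ρ v) n = 0 ∧ dotProduct (ρ w) n = 0)
    (hgen : IsUnit (Matrix.det (Matrix.of ![ρ (Pi.single 0 1), ρ (Pi.single 1 1), ρ (Pi.single 2 1)])) ∧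
      IsUnit (Matrix.det (Matrix.of ![ρ (Pi.single 0 1), ρ (Pi.single 1 1), ρ (fun _ => 1)])) ∧
      IsUnit (Matrix.det (Matrix.of ![ρ (Pi.single 0 1), ρ (Pi.single 2 1), ρ (fun _ => 1)])) ∧
      IsUnit (Matrix.det (Matrix.of ![ρ (Pi.single 1 1), ρ (Pi.single 2 1), ρ (fun _ => 1)]))) :
    (p : A) = 0 := by
  obtain ⟨g1, g2, g3, g4⟩ := hgen
  have e1 : (Pi.single 0 1 : Fin 3 → ZMod p) = ![1, 0, 0] := by ext i; fin_cases i <;> simp
  have e2 : (Pi.single 1 1 : Fin 3 → ZMod p) = ![0, 1, 0] := by ext i; fin_cases i <;> simp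
  have e3 : (Pi.single 2 1 : Fin 3 → ZMod p) = ![0, 0, 1] := by ext i; fin_cases i <;> simp
  have e4 : (fun _ => 1 : Fin 3 → ZMod p) = ![1, 1, 1] := by ext i; fin_cases i <;> simp
  rw [e1, e2, e3] at g1
  rw [e1, e2, e4] at g2
  rw [e1, e3, e4] at g3
  rw [e2, e3, e4] at g4
  set P := ρ ![1, 0, 0]; set Q := ρ ![0, 1, 0]; set R := ρ ![0, 0, 1]; set D := ρ ![1, 1, 1]
  set M := Matrix.of ![P, Q, R]
  set q := D ᵥ* M⁻¹ with hq
  have hqD : ∀ j, D j = q 0 * P j + q 1 * Q j + q 2 * R j := fun j => by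
    have : q ᵥ* M = D := by rw [hq, Matrix.vecMul_vecMul, Matrix.nonsing_inv_mul M g1, Matrix.vecMul_one]
    conv_lhs => rw [← this]
    simp [Matrix.vecMul, dotProduct, Fin.sum_univ_three, M]
  have u0 : IsUnit (q 0) := by
    have : (Matrix.of ![Q, R, D]).det = q 0 * M.det := by
      rw [det3, det3 P Q R, hqD 0, hqD 1, hqD 2]; ring
    rw [this] at g4; exact isUnit_of_mul_isUnit_left g4
  have u1 : IsUnit (q 1) := by
    have : (Matrix.of ![P, R, D]).det = (-q 1) * M.det := by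
      rw [det3, det3 P Q R, hqD 0, hqD 1, hqD 2]; ring
    rw [this] at g3; simpa using isUnit_of_mul_isUnit_left g3
  have u2 : IsUnit (q 2) := by
    have : (Matrix.of ![P, Q, D]).det = q 2 * M.det := by
      rw [det3, det3 P Q R, hqD 0, hqD 1, hqD 2]; ring
    rw [this] at g2; exact isUnit_of_mul_isUnit_left g2
  let W : Matrix (Fin 3) (Fin 3) A := M⁻¹ * Matrix.diagonal ![(↑u0.unit⁻¹ : A), ↑u1.unit⁻¹, ↑u2.unit⁻¹]
  have hWinv : Matrix.diagonal ![q 0, q 1, q 2] * M * W = 1 := by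
    rw [show W = M⁻¹ * _ from rfl, Matrix.mul_assoc, ← Matrix.mul_assoc M, Matrix.mul_nonsing_inv M g1, Matrix.one_mul,
      Matrix.diagonal_mul_diagonal, ← Matrix.diagonal_one]
    congr 1
    funext i
    fin_cases i <;> simp
  have hWinv' : W * (Matrix.diagonal ![q 0, q 1, q 2] * M) = 1 := mul_eq_one_comm.mp hWinv
  let σ := fun v => ρ v ᵥ* W
  refine normalised p σ ?_ ?_ u0.unit⁻¹ u1.unit⁻¹ u2.unit⁻¹ ?_ ?_ ?_ ?_
  · intro v hv
    by_contra hc
    push Not at hc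
    obtain ⟨i, hi⟩ := hpt v hv
    refine (IsLocalRing.mem_maximalIdeal _).mp ?_ hi
    rw [show ρ v = σ v ᵥ* (Matrix.diagonal ![q 0, q 1, q 2] * M) by
      show ρ v = (ρ v ᵥ* W) ᵥ* _
      rw [Matrix.vecMul_vecMul, hWinv', Matrix.vecMul_one]]
    simp only [Matrix.vecMul, dotProduct]
    exact Ideal.sum_mem _ fun j _ => Ideal.mul_mem_right _ _ ((IsLocalRing.mem_maximalIdeal _).mpr (hc j))
  · intro u v w hu hv hw hdet
    obtain ⟨n, hn, a1, a2, a3⟩ := hcol u v w hu hv hw hdet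
    have h0 : (Matrix.of ![ρ u, ρ v, ρ w]).det = 0 := det_eq_zero_of_orth _ n hn (funext fun i => by
      fin_cases i <;> simp [Matrix.mulVec, a1, a2, a3])
    have : Matrix.of ![σ u, σ v, σ w] = Matrix.of ![ρ u, ρ v, ρ w] * W := by
      ext i j; fin_cases i <;> rfl
    rw [this, Matrix.det_mul, h0, zero_mul]
  all_goals
    have hrow : ∀ i, M i ᵥ* W = Pi.single i ((![(↑u0.unit⁻¹ : A), ↑u1.unit⁻¹, ↑u2.unit⁻¹]) i) := by
      intro i
      have h : M * W = Matrix.diagonal ![(↑u0.unit⁻¹ : A), ↑u1.unit⁻¹, ↑u2.unit⁻¹] := by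
        show M * (M⁻¹ * _) = _
        rw [← Matrix.mul_assoc, Matrix.mul_nonsing_inv M g1, Matrix.one_mul]
      funext j
      have h2 := congrFun (congrFun h i) j
      rw [Matrix.diagonal_apply] at h2
      rw [Pi.single_apply]
      simp only [eq_comm (a := j)]
      exact h2
  · show M 0 ᵥ* W = _
    rw [hrow]; ext j; fin_cases j <;> simp
  · show M 1 ᵥ* W = _
    rw [hrow]; ext j; fin_cases j <;> simp
  · show M 2 ᵥ* W = _
    rw [hrow]; ext j; fin_cases j <;> simp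
  · show D ᵥ* W = _
    have hD : D = q 0 • M 0 + q 1 • M 1 + q 2 • M 2 := funext fun j => by simpa [M] using hqD j
    rw [hD, Matrix.add_vecMul, Matrix.add_vecMul, Matrix.smul_vecMul, Matrix.smul_vecMul, Matrix.smul_vecMul, hrow, hrow, hrow]
    ext j; fin_cases j <;> simp

end Groth.Agent.Staudt8
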